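import Cfsg.Agent.H99.AltCarmichael
import Cfsg.Prelude.Def_Sporadic
import Mathlib.GroupTheory.SpecificGroups.Alternating.Simple
import Mathlib.GroupTheory.GroupAction.Quotient

/-!
Ten elements with Carmichael's relations in a simple group of the order of `HN` give the permutation
representation of degree `1140000` with point stabiliser `A₁₂`.
-/

set_option autoImplicit false
set_option linter.style.haveILetI false

namespace Cfsg.Agent.H65.HN

open Cfsg.Agent.H99.BoundedPres

/-- Carmichael's relations on ten elements give an embedded `A₁₂`. -/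
theorem exists_altTwelve {G : Type} [Group G] (x : Fin 10 → G) (h3 : ∀ i, x i ^ 3 = 1)
    (h2 : ∀ i j, i ≠ j → (x i * x j) ^ 2 = 1) (hne : x 0 ≠ 1) :
    ∃ f : alternatingGroup (Fin 12) →* G, Function.Injective f := by
  classical
  let e12 : Fin 2 ⊕ Fin 10 ≃ Fin 12 := finSumFinEquiv
  let A := alternatingGroup (Fin 2 ⊕ Fin 10)
  let z : Fin 10 → G × A := fun i => (x i, zA i)
  let P := Subgroup.closure (Set.range z)
  let zP : Fin 10 → P := fun i => ⟨z i, Subgroup.subset_closure ⟨i, rfl⟩⟩
  have hgenP : Subgroup.closure (Set.range zP) = ⊤ := by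
    refine Subgroup.map_injective P.subtype_injective ?_
    rw [MonoidHom.map_closure, ← MonoidHom.range_eq_map, Subgroup.range_subtype, ← Set.range_comp]
    rfl
  obtain ⟨hPfin, hPle⟩ := card_le_carmichael' zP
    (fun i => Subtype.ext (Prod.ext (h3 i) (zA_cube i)))
    (fun i j hij => Subtype.ext (Prod.ext (h2 i j hij) (zA_pair i j hij))) hgenP
  let π : P →* A := (MonoidHom.snd G A).comp P.subtype
  have hπs : Function.Surjective π := by
    rw [← MonoidHom.range_eq_top, eq_top_iff, ← zA_gen, Subgroup.closure_le]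
    rintro _ ⟨i, rfl⟩
    exact ⟨zP i, rfl⟩
  have hA : 2 * Nat.card A = (Fintype.card (Fin 10) + 2).factorial := two_mul_card
  have hπb : Function.Bijective π := (Nat.bijective_iff_surjective_and_card _).mpr ⟨hπs,
    le_antisymm (by omega) (Nat.card_le_card_of_surjective _ hπs)⟩
  let eP : P ≃* A := MulEquiv.ofBijective π hπb
  let f : A →* G := ((MonoidHom.fst G A).comp P.subtype).comp eP.symm.toMonoidHom
  have hf0 : f (zA 0) = x 0 := by
    show ((eP.symm (zA 0) : P) : G × A).1 = _
    rw [eP.symm_apply_eq.mpr (show zA 0 = eP (zP 0) from rfl)]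
  let eA : A ≃* alternatingGroup (Fin 12) := e12.altCongrHom
  haveI : IsSimpleGroup A :=
    eA.isSimpleGroup_congr.mpr (alternatingGroup.isSimpleGroup (by simp))
  have hfi : Function.Injective f := by
    rw [← MonoidHom.ker_eq_bot_iff]
    refine (MonoidHom.normal_ker f).eq_bot_or_eq_top.resolve_right fun h => hne ?_
    rw [← hf0, ← MonoidHom.mem_ker, h]
    trivial
  exact ⟨f.comp eA.symm.toMonoidHom, hfi.comp eA.symm.injective⟩

/-- A simple group of order `|HN|` with such an `A₁₂` acts on `1140000` points. -/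
theorem exists_perm {G : Type} [Group G] [Finite G] [IsSimpleGroup G]
    (hcard : Nat.card G = 273030912000000)
    (f : alternatingGroup (Fin 12) →* G) (hf : Function.Injective f) :
    ∃ H : Subgroup (Equiv.Perm (Fin 1140000)), Cfsg.IsHN H ∧
      MulAction.IsPretransitive H (Fin 1140000) ∧
      Nonempty (MulAction.stabilizer H (0 : Fin 1140000) ≃* alternatingGroup (Fin 12)) := by
  classical
  set K := f.range with hK
  have hKc : Nat.card K = 239500800 := by
    rw [← Nat.card_congr (MonoidHom.ofInjective hf).toEquiv]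
    have h := two_mul_card_alternatingGroup (α := Fin 12)
    rw [Fintype.card_perm, Fintype.card_fin] at h
    rw [Nat.card_eq_fintype_card]
    have h12 : Nat.factorial 12 = 479001600 := rfl
    omega
  have hidx : K.index = 1140000 := by
    have h := K.card_mul_index
    rw [hKc, hcard] at h
    omega
  obtain ⟨e₀⟩ : Nonempty (G ⧸ K ≃ Fin 1140000) :=
    ⟨Finite.equivFinOfCardEq (by rw [← Subgroup.index_eq_card, hidx])⟩
  let e : G ⧸ K ≃ Fin 1140000 := e₀.trans (Equiv.swap (e₀ ((1 : G) : G ⧸ K)) 0)
  have he : e ((1 : G) : G ⧸ K) = 0 := Equiv.swap_apply_left _ _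
  let φ : G →* Equiv.Perm (Fin 1140000) :=
    e.permCongrHom.toMonoidHom.comp (MulAction.toPermHom G (G ⧸ K))
  have happ : ∀ (g : G) (i : Fin 1140000), φ g i = e (g • e.symm i) := fun g i => rfl
  have hker : φ.ker = ⊥ := by
    refine (MonoidHom.normal_ker φ).eq_bot_or_eq_top.resolve_right fun h => ?_
    have hall : ∀ g : G, g ∈ K := fun g => by
      have hg : φ g = 1 := by rw [← MonoidHom.mem_ker, h]; trivial
      have h0 := congrArg (fun p : Equiv.Perm (Fin 1140000) => p 0) hg
      simp only [happ, Equiv.Perm.one_apply] at h0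
      rw [← he, Equiv.symm_apply_apply, EmbeddingLike.apply_eq_iff_eq,
        MulAction.Quotient.smul_coe, smul_eq_mul, mul_one] at h0
      simpa using (QuotientGroup.eq.mp h0.symm)
    have : K = ⊤ := eq_top_iff.mpr fun g _ => hall g
    rw [this, Subgroup.index_top] at hidx
    omega
  let eφ : G ≃* φ.range := MonoidHom.ofInjective ((MonoidHom.ker_eq_bot_iff φ).mp hker)
  refine ⟨φ.range, ⟨eφ.isSimpleGroup_congr.mp inferInstance, ?_⟩, ⟨fun a b => ?_⟩, ⟨?_⟩⟩
  · rw [← Nat.card_congr eφ.toEquiv, hcard]
  · obtain ⟨g, hg⟩ := MulAction.exists_smul_eq G (e.symm a) (e.symm b)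
    exact ⟨⟨φ g, g, rfl⟩, by
      show φ g a = b
      rw [happ, hg, Equiv.apply_symm_apply]⟩
  · have hst : (MulAction.stabilizer φ.range (0 : Fin 1140000)).comap eφ.toMonoidHom = K := by
      ext g
      rw [Subgroup.mem_comap, MulAction.mem_stabilizer_iff]
      show φ g 0 = 0 ↔ g ∈ K
      rw [happ, ← he, Equiv.symm_apply_apply, EmbeddingLike.apply_eq_iff_eq,
        MulAction.Quotient.smul_coe, smul_eq_mul, mul_one, eq_comm, QuotientGroup.eq]
      simp
    have hmap : K.map eφ.toMonoidHom = MulAction.stabilizer φ.range (0 : Fin 1140000) := by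
      rw [← hst]
      exact Subgroup.map_comap_eq_self_of_surjective (f := eφ.toMonoidHom) eφ.surjective _
    exact ((MulEquiv.subgroupCongr hmap.symm).trans (eφ.subgroupMap K).symm).trans
      (MonoidHom.ofInjective hf).symm

end Cfsg.Agent.H65.HN
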