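import Cfsg.Agent.H16.HN.Rep

/-!
Ten words in presented HN whose images in the representation over F₅ satisfy Carmichael's relations.
-/

set_option autoImplicit false
set_option maxRecDepth 100000
set_option Elab.async false

namespace Cfsg.Agent.H65.HN

open Cfsg.Agent.Compute
open Cfsg.Agent.H16.HN

/-- the ten words -/
def xs : List (List ℕ) := [
  [6, 3, 4, 2, 4, 1, 7, 2, 4, 6, 3, 3, 3, 4, 7, 3, 0, 2, 0, 2, 2, 0, 2, 2, 0, 3, 3, 0, 3, 1, 2, 6, 4, 2, 2, 2, 7, 4, 3, 6, 0, 4, 3, 4, 2, 7],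
  [6, 3, 4, 2, 4, 1, 7, 2, 4, 6, 3, 3, 3, 4, 7, 0, 3, 3, 0, 2, 2, 0, 2, 2, 0, 2, 0, 2, 1, 3, 3, 6, 4, 2, 2, 2, 7, 4, 3, 6, 0, 4, 3, 4, 2, 7],
  [6, 3, 4, 2, 4, 1, 7, 2, 4, 6, 3, 3, 3, 4, 7, 3, 3, 0, 2, 2, 0, 3, 0, 2, 2, 1, 2, 2, 1, 2, 2, 1, 2, 6, 4, 2, 2, 2, 7, 4, 3, 6, 0, 4, 3, 4, 2, 7],
  [6, 3, 4, 2, 4, 1, 7, 2, 4, 6, 3, 3, 3, 4, 7, 4, 3, 0, 2, 0, 2, 2, 0, 2, 2, 1, 3, 3, 1, 3, 1, 2, 4, 6, 4, 2, 2, 2, 7, 4, 3, 6, 0, 4, 3, 4, 2, 7],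
  [2, 0, 2, 2, 0, 2, 2, 0, 3, 3, 1, 3, 3, 1, 2, 1],
  [3, 0, 2, 2, 0, 2, 2, 0, 3, 0, 3, 0, 3, 3, 1, 3],
  [2, 2, 0, 2, 2, 0, 3, 3, 0, 3, 3, 0, 3, 3],
  [3, 4, 2, 2, 0, 4, 3, 4, 3, 4, 3, 0, 3, 3, 1, 3, 3, 4, 2, 4, 3],
  [3, 3, 0, 2, 2, 2, 0, 2, 2, 2, 0, 2, 0, 2, 2],
  [2, 0, 2, 0, 4, 2, 2, 2, 4, 2, 2, 2, 1, 3, 1, 3]]

/-- one row of checks: the cube and the products with the later words -/
noncomputable def chkRow (i : ℕ) : Bool :=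
  (fun a => Nat.beq (mulM a (mulM a a)) one133 && !(Nat.beq a one133) &&
    allN 10 (fun j => Nat.ble j i ||
      (fun p => Nat.beq (mulM p p) one133) (mulM a (evM (xs.getD j [])))))
    (evM (xs.getD i []))

theorem rows_all : allN 10 chkRow = true := by decide +kernel

end Cfsg.Agent.H65.HN
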