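import Cfsg.Agent.H65.HN.AltTwelve
import Cfsg.Agent.H65.HN.Checks

/-!
`A₁₂` inside presented HN and the action on `1140000` points, from the order and simplicity of presented HN.
-/

set_option autoImplicit false
set_option linter.style.haveILetI false
set_option maxRecDepth 100000

namespace Cfsg.Agent.H65.HN

open Cfsg.Agent.Compute
open Cfsg.Agent.H16.HN

/-- the ten elements -/
noncomputable def gen12 (i : Fin 10) : Cfsg.Spor.HN := wordHN (xs.getD i.val [])

theorem row_of (i : Fin 10) : chkRow i.val = true := (allN_iff _ _).1 rows_all i.val i.isLt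

theorem mulM_den (a b : ℕ) (ha : MatOK 12 133 5 a) (hb : MatOK 12 133 5 b) :
    MatOK 12 133 5 (mulM a b) ∧ S.den (mulM a b) = S.den a * S.den b := mul_ok ha hb

theorem rho_cube (i : Fin 10) : rho (gen12 i) ^ 3 = 1 ∧ rho (gen12 i) ≠ 1 := by
  have h := row_of i
  simp only [chkRow, Bool.and_eq_true, Bool.not_eq_true'] at h
  obtain ⟨⟨h3, h1⟩, -⟩ := h
  have ha := (evM_ok (xs.getD i.val [])).1
  have hd := rho_word (xs.getD i.val [])
  obtain ⟨ho, he⟩ := mul_ok ha ha
  obtain ⟨ho', he'⟩ := mul_ok ha ho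
  refine ⟨?_, fun hone => ?_⟩
  · rw [gen12, ← hd, pow_succ', pow_two, ← he, ← he', Nat.eq_of_beq_eq_true h3]
    exact S.den_one
  · have : Nat.beq (evM (xs.getD i.val [])) one133 = true :=
      (S.eqv_iff ha S.ok_one).2 (hd.trans (hone.trans S.den_one.symm))
    rw [h1] at this
    exact Bool.noConfusion this

theorem rho_pair_lt (i j : Fin 10) (hij : i < j) : (rho (gen12 i) * rho (gen12 j)) ^ 2 = 1 := by
  have h := row_of i
  simp only [chkRow, Bool.and_eq_true] at h
  have h2 := (allN_iff _ _).1 h.2 j.val j.isLt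
  rw [Bool.or_eq_true] at h2
  rcases h2 with h2 | h2
  · rw [Nat.ble_eq] at h2
    exact absurd hij (by omega)
  obtain ⟨ho, he⟩ := mul_ok (evM_ok (xs.getD i.val [])).1 (evM_ok (xs.getD j.val [])).1
  obtain ⟨ho', he'⟩ := mul_ok ho ho
  rw [gen12, gen12, ← rho_word, ← rho_word, pow_two, ← he, ← he', Nat.eq_of_beq_eq_true h2]
  exact S.den_one

theorem rho_pair (i j : Fin 10) (hij : i ≠ j) : (rho (gen12 i) * rho (gen12 j)) ^ 2 = 1 := by
  rcases lt_or_gt_of_ne hij with h | h
  · exact rho_pair_lt i j h
  · have h' := rho_pair_lt j i h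
    have := conj_pow (a := rho (gen12 i)) (b := rho (gen12 j) * rho (gen12 i)) (i := 2)
    rw [h', mul_one, mul_inv_cancel, mul_assoc, mul_assoc, mul_inv_cancel, mul_one] at this
    exact this

/-- the statement about the degree 1140000, from the order and the simplicity of presented HN -/
theorem exists_perm_of (hs : IsSimpleGroup Cfsg.Spor.HN)
    (hcard : Nat.card Cfsg.Spor.HN = 273030912000000) :
    ∃ H : Subgroup (Equiv.Perm (Fin 1140000)), Cfsg.IsHN H ∧
      MulAction.IsPretransitive H (Fin 1140000) ∧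
      Nonempty (MulAction.stabilizer H (0 : Fin 1140000) ≃* alternatingGroup (Fin 12)) := by
  haveI := hs
  haveI : Finite Cfsg.Spor.HN := Nat.finite_of_card_ne_zero (by rw [hcard]; norm_num)
  have hinj : Function.Injective rho := by
    rw [← MonoidHom.ker_eq_bot_iff]
    refine (MonoidHom.normal_ker rho).eq_bot_or_eq_top.resolve_right fun h => rho_of_x_ne_one ?_
    rw [← MonoidHom.mem_ker, h]
    trivial
  obtain ⟨f, hf⟩ := exists_altTwelve gen12
    (fun i => hinj (by rw [map_pow, map_one]; exact (rho_cube i).1))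
    (fun i j hij => hinj (by rw [map_pow, map_mul, map_one]; exact rho_pair i j hij))
    (fun h => (rho_cube 0).2 (by rw [h, map_one]))
  exact exists_perm hcard f hf

end Cfsg.Agent.H65.HN
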